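import Mathlib.LinearAlgebra.FreeModule.PID
import Mathlib.LinearAlgebra.Matrix.NonsingularInverse
import Mathlib.Analysis.Real.Sqrt
import Mathlib.Algebra.Order.BigOperators.Group.Finset
import Mathlib.Tactic

/-! # A linear functional on a lattice is bounded by a positive definite rational form -/

set_option autoImplicit false
set_option linter.style.haveILetI false

namespace Groth.Agent.HMBound15

variable {A : Type*} [AddCommGroup A]

theorem cauchy_schwarz (β : A →+ A →+ ℚ) (hs : ∀ a b, β a b = β b a) (hp : ∀ a, a ≠ 0 → 0 < β a a) (v a : A) :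
    β v a * β v a ≤ β v v * β a a := by
  have hnn : ∀ x, 0 ≤ β x x := fun x => by
    by_cases hx : x = 0
    · simp [hx]
    · exact (hp x hx).le
  by_cases ha : a = 0
  · simp [ha]
  have hpa := hp a ha
  let t : ℚ := -(β v a) / β a a
  have h0 := hnn ((t.den : ℤ) • v + t.num • a)
  have hexp : β ((t.den : ℤ) • v + t.num • a) ((t.den : ℤ) • v + t.num • a) =
      (t.den : ℚ) ^ 2 * β v v + 2 * (t.den : ℚ) * (t.num : ℚ) * β v a + (t.num : ℚ) ^ 2 * β a a := by
    simp only [map_add, map_zsmul, AddMonoidHom.add_apply, AddMonoidHom.coe_smul, Pi.smul_apply, zsmul_eq_mul,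
      hs a v, Int.cast_natCast]
    ring
  rw [hexp] at h0
  have hden : (0 : ℚ) < t.den := by exact_mod_cast t.den_pos
  have hnum : (t.num : ℚ) = t * t.den := (Rat.mul_den_eq_num t).symm
  rw [hnum] at h0
  have h1 : 0 ≤ (t.den : ℚ) ^ 2 * (β v v + 2 * t * β v a + t ^ 2 * β a a) := by
    refine h0.trans_eq ?_
    ring
  have h2 : 0 ≤ β v v + 2 * t * β v a + t ^ 2 * β a a :=
    nonneg_of_mul_nonneg_right h1 (pow_pos hden 2)
  have h3 : β v v + 2 * t * β v a + t ^ 2 * β a a = β v v - β v a * β v a / β a a := by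
    simp only [t]
    field_simp
    ring
  rw [h3, sub_nonneg, div_le_iff₀ hpa] at h2
  exact h2

theorem exists_repr [Module.Finite ℤ A] (β : A →+ A →+ ℚ) (hp : ∀ a, a ≠ 0 → 0 < β a a) (φ : A →+ ℚ) :
    ∃ (v : A) (D : ℕ), D ≠ 0 ∧ ∀ a, β v a = (D : ℚ) * φ a := by
  classical
  haveI : IsAddTorsionFree A := ⟨fun n hn a b hab => by
    by_contra hne
    have h := hp (a - b) (sub_ne_zero.2 hne)
    have h0 : n • (a - b) = 0 := by rw [nsmul_sub, sub_eq_zero]; exact hab
    have h1 : (n : ℚ) * β (a - b) (a - b) = 0 := by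
      rw [← nsmul_eq_mul, ← map_nsmul, h0, map_zero]
    rcases mul_eq_zero.1 h1 with h2 | h2
    · exact hn (by exact_mod_cast h2)
    · exact h.ne' h2⟩
  haveI : Module.IsTorsionFree ℤ A := inferInstance
  haveI : Module.Free ℤ A := inferInstance
  let e := Module.Free.chooseBasis ℤ A
  let M : Matrix (Module.Free.ChooseBasisIndex ℤ A) (Module.Free.ChooseBasisIndex ℤ A) ℚ :=
    Matrix.of fun i j => β (e i) (e j)
  have hM : IsUnit M.det := by
    rw [isUnit_iff_ne_zero]
    intro hdet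
    obtain ⟨x, hx, hMx⟩ := Matrix.exists_vecMul_eq_zero_iff.2 hdet
    obtain ⟨N, hN⟩ := IsLocalization.exist_integer_multiples_of_finite (nonZeroDivisors ℤ) x
    choose z hz using hN
    have hN0 : ((N : ℤ) : ℚ) ≠ 0 := by exact_mod_cast nonZeroDivisors.coe_ne_zero N
    have hz' : ∀ i, (z i : ℚ) = (N : ℤ) * x i := fun i => by
      have := hz i
      rw [zsmul_eq_mul] at this
      exact this
    let w : A := ∑ i, z i • e i
    have hw : w ≠ 0 := by
      intro hw0
      apply hx
      funext i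
      have h1 := congrArg (fun y => e.repr y i) hw0
      simp only [w, map_zero, Finsupp.zero_apply, map_sum, map_zsmul, Module.Basis.repr_self,
        Finsupp.coe_finset_sum, Finset.sum_apply, Finsupp.coe_smul, Pi.smul_apply, Finsupp.single_apply,
        smul_eq_mul, mul_ite, mul_one, mul_zero, Finset.sum_ite_eq', Finset.mem_univ, if_true] at h1
      have h2 := hz' i
      rw [h1, Int.cast_zero, eq_comm, mul_eq_zero] at h2
      simpa using h2.resolve_left hN0
    have h0 : ∀ j, β w (e j) = 0 := fun j => by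
      have h1 : (Matrix.vecMul x M) j = 0 := by rw [hMx]; rfl
      simp only [w, map_sum, AddMonoidHom.finset_sum_apply, map_zsmul, AddMonoidHom.coe_smul, Pi.smul_apply,
        zsmul_eq_mul, hz']
      simp only [mul_assoc, ← Finset.mul_sum]
      simp only [Matrix.vecMul, dotProduct, M, Matrix.of_apply] at h1
      rw [h1, mul_zero]
    have hz0 : β w w = 0 := by
      conv_lhs => arg 2; simp only [w]
      rw [map_sum, Finset.sum_eq_zero]
      intro i _
      rw [map_zsmul, h0, smul_zero]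
    exact (hp w hw).ne' hz0
  let c : Module.Free.ChooseBasisIndex ℤ A → ℚ := Matrix.vecMul (fun i => φ (e i)) M⁻¹
  have hc : ∀ j, ∑ i, c i * β (e i) (e j) = φ (e j) := fun j => by
    have h := congrFun (show Matrix.vecMul c M = (fun i => φ (e i)) by
      simp only [c, Matrix.vecMul_vecMul, Matrix.nonsing_inv_mul M hM, Matrix.vecMul_one]) j
    simpa [Matrix.vecMul, dotProduct, M] using h
  obtain ⟨N, hN⟩ := IsLocalization.exist_integer_multiples_of_finite (nonZeroDivisors ℤ) c
  choose z hz using hN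
  have hz' : ∀ i, (z i : ℚ) = (N : ℤ) * c i := fun i => by
    have := hz i
    rw [zsmul_eq_mul] at this
    exact this
  refine ⟨(N : ℤ).sign • ∑ i, z i • e i, (N : ℤ).natAbs, by simp, fun a => ?_⟩
  have key : ∀ j, β ((N : ℤ).sign • ∑ i, z i • e i) (e j) = ((N : ℤ).natAbs : ℚ) * φ (e j) := fun j => by
    simp only [map_zsmul, map_sum, AddMonoidHom.coe_smul, Pi.smul_apply, AddMonoidHom.finset_sum_apply,
      zsmul_eq_mul, hz', mul_assoc, ← Finset.mul_sum, hc]
    rw [← mul_assoc, ← Int.cast_mul, Int.sign_mul_self_eq_natAbs, Int.cast_natCast]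
  have hh : β ((N : ℤ).sign • ∑ i, z i • e i) = ((N : ℤ).natAbs) • φ := by
    apply AddMonoidHom.toIntLinearMap_injective
    refine e.ext fun j => ?_
    simpa [nsmul_eq_mul] using key j
  rw [hh, AddMonoidHom.coe_smul, Pi.smul_apply, nsmul_eq_mul]

theorem exists_bound [Module.Finite ℤ A] (β : A →+ A →+ ℚ) (hs : ∀ a b, β a b = β b a)
    (hp : ∀ a, a ≠ 0 → 0 < β a a) (φ : A →+ ℚ) :
    ∃ K : ℝ, 0 ≤ K ∧ ∀ a, |(φ a : ℝ)| ≤ K * Real.sqrt (β a a : ℝ) := by
  obtain ⟨v, D, hD, hv⟩ := exists_repr β hp φ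
  refine ⟨Real.sqrt (β v v : ℝ) / D, by positivity, fun a => ?_⟩
  have hD' : (0 : ℝ) < D := by exact_mod_cast Nat.pos_of_ne_zero hD
  have h := cauchy_schwarz β hs hp v a
  rw [hv a] at h
  have hvv : (0 : ℝ) ≤ (β v v : ℝ) := by
    by_cases hv0 : v = 0
    · simp [hv0]
    · exact_mod_cast (hp v hv0).le
  have h' : ((D : ℝ) * (φ a : ℝ)) ^ 2 ≤ (β v v : ℝ) * (β a a : ℝ) := by
    rw [sq]
    exact_mod_cast h
  have h2 := Real.abs_le_sqrt h'
  rw [Real.sqrt_mul hvv, abs_mul, abs_of_pos hD'] at h2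
  rw [div_mul_eq_mul_div, le_div_iff₀ hD', mul_comm]
  exact h2

end Groth.Agent.HMBound15
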