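import Groth.Agent.Lib.DiagGL.Chars
import Groth.Agent.Lib.MTRigid29.BaseChange
import Mathlib.RingTheory.Bialgebra.MonoidAlgebra

/-! # Characters of the multiplicative group over a field; cocharacter lattices are finitely generated -/

set_option autoImplicit false
set_option linter.style.haveILetI false
set_option backward.isDefEq.respectTransparency.types false
universe u

open CategoryTheory Limits MonoidalCategory CartesianMonoidalCategory MonObj AlgebraicGeometry
open scoped TensorProduct

noncomputable section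

namespace Groth.Agent.HMBound15

open DiagGL

variable {k : Type u} [Field k]

theorem ev_id {A : Type u} [CommRing A] [Algebra k A] (a : A) :
    ev (𝟙 (CoactBr.sp k A)) a = (Scheme.ΓSpecIso (CommRingCat.of A)).inv a := by
  show ((Scheme.ΓSpecIso (CommRingCat.of A)).inv ≫ (Scheme.Hom.appTop (𝟙 (Spec (CommRingCat.of A))))).hom a = _
  rw [Scheme.Hom.id_appTop, Category.comp_id]

/-- A multiplicative invertible function on `Spec A` is group-like. -/
theorem isGroupLikeElem_of_mul {A : Type u} [CommRing A] [Bialgebra k A] {b : A} (hb : IsUnit b)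
    (h : ∀ {T : Over (Spec (CommRingCat.of k))} (f g : T ⟶ CoactBr.sp k A), ev (f * g) b = ev f b * ev g b) :
    IsGroupLikeElem k b := by
  have hcomul : Coalgebra.comul (R := k) b = b ⊗ₜ[k] b := by
    let φ : A →ₐ[k] A ⊗[k] A := Algebra.TensorProduct.includeLeft
    let ψ : A →ₐ[k] A ⊗[k] A := Algebra.TensorProduct.includeRight
    have h1 := h (CoactBr.pt φ) (CoactBr.pt ψ)
    letI := (alg (CoactBr.sp k (A ⊗[k] A))).toAlgebra
    let io : A ⊗[k] A →+* Γ((CoactBr.sp k (A ⊗[k] A)).left, ⊤) :=
      (Scheme.ΓSpecIso (CommRingCat.of (A ⊗[k] A))).inv.hom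
    have ep : ∀ (χ : A →ₐ[k] A ⊗[k] A) (a : A), ev (CoactBr.pt χ) a = io (χ a) := fun χ a => ev_pt χ a
    rw [ev_mul, ep φ, ep ψ] at h1
    have he : (Algebra.TensorProduct.lift (R := k) (S := k) ⟨ev (CoactBr.pt φ), ev_algebraMap _⟩
        ⟨ev (CoactBr.pt ψ), ev_algebraMap _⟩ fun _ _ => .all _ _) (Bialgebra.comulAlgHom k A b) =
        io (Bialgebra.comulAlgHom k A b) := by
      generalize Bialgebra.comulAlgHom k A b = x
      induction x with
      | zero => exact (map_zero _).trans (map_zero _).symm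
      | tmul x y =>
        rw [Algebra.TensorProduct.lift_tmul]
        show ev (CoactBr.pt φ) x * ev (CoactBr.pt ψ) y = _
        rw [ep φ x, ep ψ y, ← map_mul]
        simp [φ, ψ]
      | add x y hx hy => exact (map_add _ x y).trans ((congrArg₂ _ hx hy).trans (map_add io x y).symm)
    have h2 : io (Bialgebra.comulAlgHom k A b) = io (φ b * ψ b) := he.symm.trans (h1.trans (map_mul io _ _).symm)
    have h3 := (ConcreteCategory.bijective_of_isIso
      (Scheme.ΓSpecIso (CommRingCat.of (A ⊗[k] A))).inv).1 h2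
    simpa [φ, ψ] using h3
  refine ⟨?_, hcomul⟩
  have h3 : Coalgebra.counit (R := k) b • b = b := by
    have := congrArg (TensorProduct.lid k A) (Coalgebra.rTensor_counit_comul (R := k) b)
    rw [hcomul] at this
    simpa using this
  rw [Algebra.smul_def] at h3
  have h4 : algebraMap k A (Coalgebra.counit (R := k) b) = algebraMap k A 1 := by
    rw [map_one]
    exact hb.mul_right_cancel (h3.trans (_root_.one_mul b).symm)
  rcases subsingleton_or_nontrivial A with hA | hA
  · have h5 := Bialgebra.counit_one (R := k) (A := A)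
    rw [Subsingleton.elim (1 : A) b] at h5
    exact h5
  · exact (algebraMap k A).injective h4

/-- A multiplicative invertible function on `Gm` is a power of the coordinate. -/
theorem exists_zpow (u : Γ((Red.diag k ℤ).left, ⊤)) (hu : IsUnit u)
    (h : ∀ {T : Over (Spec (CommRingCat.of k))} (f g : T ⟶ Red.diag k ℤ),
      (f * g).left.appTop u = f.left.appTop u * g.left.appTop u) :
    ∃ n : ℤ, u = (charsDiag k ℤ).ch (𝟙 (Red.diag k ℤ)) (Multiplicative.ofAdd n) := by
  let A := MonoidAlgebra k (Multiplicative ℤ)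
  have hev : ∀ a : A, ev (𝟙 (CoactBr.sp k A)) a = (Scheme.ΓSpecIso (CommRingCat.of A)).inv a := ev_id
  obtain ⟨b, hb⟩ := (ConcreteCategory.bijective_of_isIso (Scheme.ΓSpecIso (CommRingCat.of A)).inv).2 u
  have hev' : ∀ {T : Over (Spec (CommRingCat.of k))} (f : T ⟶ CoactBr.sp k A), ev f b = f.left.appTop u := fun f => by
    have h1 := ev_comp (T := CoactBr.sp k A) f (𝟙 _) b
    rw [Category.comp_id, hev, hb] at h1
    exact h1
  have hgl : IsGroupLikeElem k b := by
    refine isGroupLikeElem_of_mul ?_ fun f g => ?_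
    · have h1 := hu.map (Scheme.ΓSpecIso (CommRingCat.of A)).hom.hom
      have h2 : (Scheme.ΓSpecIso (CommRingCat.of A)).hom.hom
          ((Scheme.ΓSpecIso (CommRingCat.of A)).inv b) = b :=
        ConcreteCategory.congr_hom (Iso.inv_hom_id _) b
      subst hb
      exact h2 ▸ h1
    · rw [hev', hev', hev']
      exact h f g
  obtain ⟨m, hm⟩ := MonoidAlgebra.isGroupLikeElem_iff_mem_range_of.1 hgl
  refine ⟨m.toAdd, ?_⟩
  show u = ev (T := CoactBr.sp k A) (A := A) (𝟙 _) (MonoidAlgebra.of k (Multiplicative ℤ) m)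
  rw [hm, hev, hb]

variable {T : Over (Spec (CommRingCat.of k))} [GrpObj T] {r : ℕ}

/-- Homomorphisms from the multiplicative group, as a type. -/
def Cochar (T : Over (Spec (CommRingCat.of k))) [GrpObj T] : Type u := {l : Red.Gm (Spec (CommRingCat.of k)) ⟶ T // IsMonHom l}

/-- The exponents of a cocharacter determine it, additively. -/
theorem exists_exponents (C : Chars (Fin r → ℤ) T) :
    ∃ E : (Red.Gm (Spec (CommRingCat.of k)) ⟶ T) → (Fin r → ℤ),
      (∀ l m : Red.Gm (Spec (CommRingCat.of k)) ⟶ T, IsMonHom l → IsMonHom m → IsMonHom (l * m) → E (l * m) = E l + E m) ∧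
      ∀ l m : Red.Gm (Spec (CommRingCat.of k)) ⟶ T, IsMonHom l → IsMonHom m → E l = E m → l = m := by
  classical
  obtain ⟨e⟩ := MTRigid29.nonempty_grpIso_of_chars (charsDiag k ℤ) (charsDS (Spec (CommRingCat.of k)) ℤ)
  haveI : IsMonHom e.hom.hom.hom := e.hom.hom.isMonHom_hom
  let z : ℤ → Γ((Red.diag k ℤ).left, ⊤) := fun n => (charsDiag k ℤ).ch (𝟙 _) (Multiplicative.ofAdd n)
  have hz : ∀ a b, z (a + b) = z a * z b := fun a b => by
    show (charsDiag k ℤ).ch (𝟙 _) _ = _
    rw [ofAdd_add, map_mul]
  have hzinj : Function.Injective z := fun a b hab => by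
    let A := MonoidAlgebra k (Multiplicative ℤ)
    have h1 : ev (T := CoactBr.sp k A) (A := A) (𝟙 _) (MonoidAlgebra.of k _ (Multiplicative.ofAdd a)) =
      ev (T := CoactBr.sp k A) (A := A) (𝟙 _) (MonoidAlgebra.of k _ (Multiplicative.ofAdd b)) := hab
    rw [ev_id, ev_id] at h1
    exact Multiplicative.ofAdd.injective (MonoidAlgebra.of_injective
      ((ConcreteCategory.bijective_of_isIso (Scheme.ΓSpecIso (CommRingCat.of A)).inv).1 h1))
  let y : (Red.Gm (Spec (CommRingCat.of k)) ⟶ T) → (Red.diag k ℤ ⟶ T) := fun l => e.hom.hom.hom ≫ l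
  have hex : ∀ (l : Red.Gm (Spec (CommRingCat.of k)) ⟶ T), IsMonHom l → ∀ a : Multiplicative (Fin r → ℤ), ∃ n : ℤ, C.ch (y l) a = z n := fun l hl a => by
    haveI := hl
    haveI : IsMonHom (y l) := inferInstanceAs (IsMonHom (e.hom.hom.hom ≫ l))
    have hu : IsUnit (C.ch (y l) a) :=
      ⟨⟨C.ch (y l) a, C.ch (y l) a⁻¹, by rw [← map_mul, mul_inv_cancel, map_one], by rw [← map_mul, inv_mul_cancel, map_one]⟩, rfl⟩
    refine exists_zpow (C.ch (y l) a) hu fun f g => ?_
    rw [← C.nat, ← C.nat, ← C.nat, ← C.mul, MonObj.mul_comp]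
  let N : (Red.Gm (Spec (CommRingCat.of k)) ⟶ T) → Multiplicative (Fin r → ℤ) → ℤ := fun l a =>
    if h : ∃ n : ℤ, C.ch (y l) a = z n then h.choose else 0
  have hN : ∀ (l : Red.Gm (Spec (CommRingCat.of k)) ⟶ T), IsMonHom l → ∀ a : Multiplicative (Fin r → ℤ), C.ch (y l) a = z (N l a) := fun l hl a => by
    simp only [N, dif_pos (hex l hl a)]
    exact (hex l hl a).choose_spec
  refine ⟨fun l i => N l (Multiplicative.ofAdd (Pi.single i 1)), fun l m hl hm hlm => funext fun i => ?_,
    fun l m hl hm hlm => ?_⟩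
  · refine hzinj ?_
    show z (N (l * m) _) = z (N l _ + N m _)
    rw [hz, ← hN l hl, ← hN m hm, ← hN (l * m) hlm]
    simp only [y, MonObj.comp_mul, C.mul]
  · have h1 : y l = y m := by
      refine C.inj fun a => ?_
      let g : (Red.diag k ℤ ⟶ T) → ((Fin r → ℤ) →+ Additive Γ((Red.diag k ℤ).left, ⊤)ˣ) := fun w =>
        { toFun := fun x => Additive.ofMul ((C.ch w).toHomUnits (Multiplicative.ofAdd x))
          map_zero' := by rw [ofAdd_zero, map_one, ofMul_one]
          map_add' := fun x x' => by rw [ofAdd_add, map_mul, ofMul_mul] }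
      have h2 : g (y l) = g (y m) := by
        refine AddMonoidHom.functions_ext _ _ _ fun i n => ?_
        have h3 : g (y l) (Pi.single i 1) = g (y m) (Pi.single i 1) := by
          refine Additive.toMul.injective (Units.ext ?_)
          show C.ch (y l) _ = C.ch (y m) _
          rw [hN l hl, hN m hm]
          exact congrArg z (congrFun hlm i)
        have h4 : (Pi.single i n : Fin r → ℤ) = n • Pi.single i 1 := by
          rw [← Pi.single_smul, smul_eq_mul, _root_.mul_one]
        rw [h4, map_zsmul, map_zsmul, h3]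
      exact congrArg Units.val (congrArg Additive.toMul (DFunLike.congr_fun h2 a.toAdd))
    have h5 := congrArg (e.inv.hom.hom ≫ ·) h1
    simpa [y, ← Category.assoc, ← Grp.comp', ← Mon.comp_hom'] using h5

end Groth.Agent.HMBound15
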