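import Groth.Agent.Lib.TorPts21.CentralizerRadical
import Groth.Agent.Lib.TorPts21.MaximalTorusClosed
import Groth.Agent.Lib.HMBound15.Cochar
import Groth.Agent.S3917
import Groth.Agent.S3901

/-! # Every one-parameter subgroup is conjugate into a given maximal torus -/

set_option autoImplicit false
set_option linter.style.haveILetI false
set_option backward.isDefEq.respectTransparency.types false
universe u

open CategoryTheory Limits MonoidalCategory CartesianMonoidalCategory MonObj AlgebraicGeometry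

noncomputable section

namespace Groth.Agent.HMBound15

open DiagGL

/-- Characters of a product. -/
def charsTensor {S : Scheme.{u}} {A B : Over S} [GrpObj A] [GrpObj B] {M N : Type} [AddCommGroup M] [AddCommGroup N]
    (C : Chars M A) (D : Chars N B) : Chars (M × N) (A ⊗ B) where
  ch x :=
    (C.ch (x ≫ fst A B)).comp (AddMonoidHom.fst M N).toMultiplicative *
      (D.ch (x ≫ snd A B)).comp (AddMonoidHom.snd M N).toMultiplicative
  nat t x a := by
    simp only [MonoidHom.mul_apply, MonoidHom.comp_apply, Category.assoc, C.nat, D.nat, map_mul]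
  mul x y a := by
    simp only [MonoidHom.mul_apply, MonoidHom.comp_apply, MonObj.mul_comp, C.mul, D.mul]
    exact mul_mul_mul_comm _ _ _ _
  inj {T x y} h := CartesianMonoidalCategory.hom_ext _ _
    (C.inj fun m => by simpa [map_one] using h (Multiplicative.ofAdd (m.toAdd, (0 : N))))
    (D.inj fun n => by simpa [map_one] using h (Multiplicative.ofAdd ((0 : M), n.toAdd)))
  surj {T} c := by
    obtain ⟨a, ha⟩ := C.surj (T := T) (c.comp (AddMonoidHom.inl M N).toMultiplicative)
    obtain ⟨b, hb⟩ := D.surj (T := T) (c.comp (AddMonoidHom.inr M N).toMultiplicative)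
    refine ⟨lift a b, MonoidHom.ext fun m => ?_⟩
    simp only [MonoidHom.mul_apply, MonoidHom.comp_apply, lift_fst, lift_snd, ha, hb, ← map_mul]
    exact congrArg c (congrArg Multiplicative.ofAdd (Prod.ext (add_zero m.toAdd.1) (zero_add m.toAdd.2)))

/-- Change the index group of character coordinates. -/
def charsCongr {S : Scheme.{u}} {A : Over S} [GrpObj A] {M N : Type} [AddCommGroup M] [AddCommGroup N]
    (C : Chars M A) (e : N ≃+ M) : Chars N A where
  ch x := (C.ch x).comp e.toAddMonoidHom.toMultiplicative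
  nat t x a := C.nat t x _
  mul x y a := C.mul x y _
  inj {T x y} h := C.inj fun m => by
    simpa using h (Multiplicative.ofAdd (e.symm m.toAdd))
  surj {T} c := by
    obtain ⟨x, hx⟩ := C.surj (T := T) (c.comp e.symm.toAddMonoidHom.toMultiplicative)
    refine ⟨x, MonoidHom.ext fun m => ?_⟩
    show C.ch x _ = _
    rw [hx]
    exact congrArg c (congrArg Multiplicative.ofAdd (e.symm_apply_apply m.toAdd))

variable {k : Type u} [Field k] [IsAlgClosed k]

theorem exists_conj_cochar {G T : Over (Spec (CommRingCat.of k))} [GrpObj G] [GrpObj T] (hG : Red.IsReductive G)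
    (i : T ⟶ G) [IsMonHom i] (hi : Red.IsMaximalTorus i) (l : Red.Gm (Spec (CommRingCat.of k)) ⟶ G) [IsMonHom l] :
    ∃ (g : 𝟙_ (Over (Spec (CommRingCat.of k))) ⟶ G) (l₀ : Red.Gm (Spec (CommRingCat.of k)) ⟶ T),
      IsMonHom l₀ ∧ l = (toUnit _ ≫ g) * (l₀ ≫ i) * (toUnit _ ≫ g)⁻¹ := by
  haveI : Mono i := hi.2.1
  obtain ⟨hGa, hGs, hGc⟩ := TorPts21.props_of_isReductive hG
  haveI := hGa
  haveI := hGs
  haveI := hGc
  obtain ⟨r, ⟨C⟩⟩ := TorPts21.exists_chars hi.2.2.1
  let Gm := Red.Gm (Spec (CommRingCat.of k))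
  let D : Chars (Fin 1 → ℤ) Gm := charsCongr (charsDS _ ℤ) (AddEquiv.funUnique (Fin 1) ℤ)
  haveI := TorPts21.smooth_of_chars D
  haveI := TorPts21.isAffine_of_chars D
  haveI := TorPts21.irreducibleSpace_of_chars D
  haveI : Smooth (G ⊗ Gm).hom := inferInstanceAs (Smooth (pullback.fst G.hom Gm.hom ≫ G.hom))
  haveI : IsAffine (G ⊗ Gm).left := inferInstanceAs (IsAffine (pullback G.hom Gm.hom))
  haveI : ConnectedSpace (G ⊗ Gm).left := by
    haveI := AbRigid.irreducibleSpace_of_isAlgClosed G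
    haveI := AbRigid.geometricallyIrreducible_of_connected Gm
    haveI : IrreducibleSpace ↥(Limits.pullback G.hom Gm.hom) := inferInstance
    exact inferInstanceAs (ConnectedSpace ↥(Limits.pullback G.hom Gm.hom))
  have hTD : Red.IsTorus (T ⊗ Gm) :=
    TorPts21.isTorus_of_chars (r := r + 1) (charsCongr (charsTensor C D)
      ((LinearEquiv.sumArrowLequivProdArrow (Fin r) (Fin 1) ℤ ℤ).toAddEquiv.symm.trans
        (LinearEquiv.funCongrLeft ℤ ℤ finSumFinEquiv.symm).toAddEquiv).symm)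
  let i' : T ⊗ Gm ⟶ G ⊗ Gm := i ▷ Gm
  haveI : IsMonHom i' := TorsorSch25.isMonHom_of_points i' fun X a b =>
    CartesianMonoidalCategory.hom_ext _ _
      (by simp [i', MonObj.mul_comp]) (by simp [i', MonObj.mul_comp])
  haveI : Mono i' := ⟨fun a b h => CartesianMonoidalCategory.hom_ext _ _
    ((cancel_mono i).1 (by simpa [i'] using congrArg (· ≫ fst G Gm) h))
    (by simpa [i'] using congrArg (· ≫ snd G Gm) h)⟩
  have hcent := (Groth.Agent.S3917.result k G hG T i hi.2.2.1).1 hi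
  have hmax : AGF.IsMaxTorus i' := by
    refine ⟨inferInstance, inferInstance, hTD, fun T' _ j _ _ f hT' hf => ?_⟩
    obtain ⟨d, ⟨C'⟩⟩ := TorPts21.exists_chars hT'
    obtain ⟨a, ha⟩ := (hcent.2.2 T' (j ≫ fst G Gm)).2 fun X' x h => by
      have hh : h ≫ i = lift h (1 : X' ⟶ Gm) ≫ f ≫ j ≫ fst G Gm := by
        rw [reassoc_of% hf]
        simp [i']
      rw [hh, ← Category.assoc (lift h 1) f (j ≫ fst G Gm), ← MonObj.mul_comp, ← MonObj.mul_comp,
        (TorPts21.commute_of_chars C' _ _).eq]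
    let s : T' ⟶ T ⊗ Gm := lift a (j ≫ snd G Gm)
    have hs : s ≫ i' = j := CartesianMonoidalCategory.hom_ext _ _ (by simp [s, i', ha]) (by simp [s, i'])
    refine ⟨s, (cancel_mono i').1 ?_, (cancel_mono j).1 ?_⟩
    · rw [Category.assoc, hs, hf, Category.id_comp]
    · rw [Category.assoc, hf, hs, Category.id_comp]
  let gr : Gm ⟶ G ⊗ Gm := lift l (𝟙 Gm)
  haveI : IsMonHom gr := TorsorSch25.isMonHom_of_points gr fun X a b =>
    CartesianMonoidalCategory.hom_ext _ _
      (by simp [gr, MonObj.mul_comp]) (by simp [gr, MonObj.mul_comp])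
  haveI : Mono gr := ⟨fun a b h => by simpa [gr] using congrArg (· ≫ snd G Gm) h⟩
  obtain ⟨M, _, iM, s, hM, hs⟩ := TorPts21.exists_maxTorus_ge gr (TorPts21.isTorus_of_chars D)
  obtain ⟨g, φ, hφ⟩ := Groth.Agent.S3901.result k (G ⊗ Gm) (T ⊗ Gm) M i' iM hmax hM
  let l₀ : Gm ⟶ T := s ≫ φ.inv ≫ fst T Gm
  have hl : l = (toUnit _ ≫ g ≫ fst G Gm) * (l₀ ≫ i) * (toUnit _ ≫ g ≫ fst G Gm)⁻¹ := by
    have h1 : gr = (s ≫ φ.inv) ≫ AGF.conjBy g i' := by
      rw [Category.assoc, ← hφ, φ.inv_hom_id_assoc, hs]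
    have h2 := congrArg (· ≫ fst G Gm) h1
    simp only [gr, lift_fst] at h2
    rw [h2, TorPts21.comp_conjBy, MonObj.mul_comp, MonObj.mul_comp, GrpObj.inv_comp]
    simp [l₀, i', Category.assoc]
  refine ⟨g ≫ fst G Gm, l₀, TorsorSch25.isMonHom_of_points l₀ fun X a b => (cancel_mono i).1 ?_, hl⟩
  have h3 : ∀ x : X ⟶ Gm, x ≫ l₀ ≫ i =
      (toUnit _ ≫ g ≫ fst G Gm)⁻¹ * (x ≫ l) * (toUnit _ ≫ g ≫ fst G Gm) := fun x => by
    rw [hl, MonObj.comp_mul, MonObj.comp_mul, GrpObj.comp_inv, comp_toUnit_assoc]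
    group
  rw [MonObj.mul_comp (a ≫ l₀) (b ≫ l₀) i, Category.assoc (a * b), Category.assoc a, Category.assoc b, h3, h3, h3,
    MonObj.mul_comp a b l]
  group

end Groth.Agent.HMBound15
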